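import Cfsg.Agent.Lib.H6.Y11TC.Mask

set_option autoImplicit false
set_option maxRecDepth 1000000

/-! # final table of Y11, part 0 (generated) -/

namespace Cfsg.Agent.Lib.H6.Y11TC

open Cfsg.Agent.Lib.H17.CosetCert Cfsg.Agent.Lib.H6.TC

/-- rows chunk 0 -/
def rows0 : List ℕ := [0xba1c00900200070018005001000300080010000000]

set_option maxHeartbeats 0 in
theorem rchk0 : checkRows F iv 11 16384 11912 mask rows0 = true := by
  decide +kernel

end Cfsg.Agent.Lib.H6.Y11TC
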