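import Cfsg.Agent.Lib.H6.TCMask2
import Cfsg.Agent.Lib.H6.Y11TC.Rows0

set_option autoImplicit false
set_option maxRecDepth 1000000

/-! # final table of Y11 (generated) -/

namespace Cfsg.Agent.Lib.H6.Y11TC

open Cfsg.Agent.Lib.H17.CosetCert Cfsg.Agent.Lib.H6.TC

/-- all row chunks -/
def rowsAll : List (List ℕ) := [rows0]

/-- all row chunks with their bases -/
def rowsAllO : List (ℕ × List ℕ) := [(0, rows0)]

theorem rowsAllO_snd : rowsAllO.map Prod.snd = rowsAll := rfl

/-- all rows -/
def rows : List ℕ := rowsAll.flatten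

set_option maxHeartbeats 0 in
theorem mask_all : maskRAllO 16384 rowsAllO = mask := by
  decide +kernel

theorem mask_mem : ∀ j, tb mask j = true → ∃ r ∈ rows, Nat.mod r 16384 = j := by
  intro j hj
  rw [← mask_all] at hj
  have := tb_maskRAllO 16384 rowsAllO j hj
  rw [rowsAllO_snd] at this
  exact this

set_option maxHeartbeats 0 in
theorem rows_length : rows.length = 1 := by
  decide +kernel

theorem mask_zero : tb mask 0 = true := by
  decide +kernel

theorem rows_chk : ∀ L ∈ rowsAll, checkRows F iv 11 16384 11912 mask L = true := by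
  intro L hL
  simp only [rowsAll, List.mem_cons, List.not_mem_nil, or_false] at hL
  rcases hL with rfl
  · exact rchk0

end Cfsg.Agent.Lib.H6.Y11TC
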