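import Cfsg.Agent.Lib.H6.Y11TC.Steps0

set_option autoImplicit false
set_option maxRecDepth 1000000

/-! # invariant through part 0 of Y11 (generated) -/

namespace Cfsg.Agent.Lib.H6.Y11TC

open Cfsg.Agent.Lib.H17.CosetCert Cfsg.Agent.Lib.H6.TC

theorem part0 {G Q : Type} [Group G] [MulAction G Q] (γ : ℕ → G)
    (hiv : ∀ x < 11, γ (iv x) = (γ x)⁻¹) (q0 : Q) (hw : WordsOK γ q0 words)
    (h0 : Inv F 11 γ q0 0 1) : Inv F 11 γ q0 11912 4305 := by
  have h1 := checkSteps_sound F iv 11 16384 γ hiv q0 words hw steps0 0 1 258 h0 chk0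
  rw [len0] at h1
  have h2 := checkSteps_sound F iv 11 16384 γ hiv q0 words hw steps1 1000 258 617 h1 chk1
  rw [len1] at h2
  have h3 := checkSteps_sound F iv 11 16384 γ hiv q0 words hw steps2 2000 617 1022 h2 chk2
  rw [len2] at h3
  have h4 := checkSteps_sound F iv 11 16384 γ hiv q0 words hw steps3 3000 1022 1445 h3 chk3
  rw [len3] at h4
  have h5 := checkSteps_sound F iv 11 16384 γ hiv q0 words hw steps4 4000 1445 1889 h4 chk4
  rw [len4] at h5
  have h6 := checkSteps_sound F iv 11 16384 γ hiv q0 words hw steps5 5000 1889 2311 h5 chk5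
  rw [len5] at h6
  have h7 := checkSteps_sound F iv 11 16384 γ hiv q0 words hw steps6 6000 2311 2762 h6 chk6
  rw [len6] at h7
  have h8 := checkSteps_sound F iv 11 16384 γ hiv q0 words hw steps7 7000 2762 3225 h7 chk7
  rw [len7] at h8
  have h9 := checkSteps_sound F iv 11 16384 γ hiv q0 words hw steps8 8000 3225 3686 h8 chk8
  rw [len8] at h9
  have h10 := checkSteps_sound F iv 11 16384 γ hiv q0 words hw steps9 9000 3686 4152 h9 chk9
  rw [len9] at h10
  have h11 := checkSteps_sound F iv 11 16384 γ hiv q0 words hw steps10 10000 4152 4305 h10 chk10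
  rw [len10] at h11
  have h12 := checkSteps_sound F iv 11 16384 γ hiv q0 words hw steps11 11000 4305 4305 h11 chk11
  rw [len11] at h12
  exact h12

end Cfsg.Agent.Lib.H6.Y11TC
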